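import Mathlib
import Groth.Prelude.Def_Flat
import Groth.Agent.H4.WeakNorm2
import Groth.Agent.H4.SmRed

/-! helper5: weak subintegral closure commutes with localization / étale base change (S14796). -/

set_option autoImplicit false
universe u
open CategoryTheory CategoryTheory.Limits AlgebraicGeometry TensorProduct

namespace Groth.Agent.H5.WSub

open Groth.Agent.H4.UHCrit Groth.Agent.H4.UHTower Groth.Agent.H4.UHApprox
  Groth.Agent.H4.WeakNorm Groth.Agent.H4.WeakNorm2

variable {A B A' : Type u} [CommRing A] [CommRing B] [CommRing A'] [Algebra A B] [Algebra A A']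

/-- base change of a universal homeomorphism of affine schemes. -/
lemma uh_baseChange (C : Type u) [CommRing C] [Algebra A C]
    (hC : FlatMor.IsUnivHomeo (Spec.map (CommRingCat.ofHom (algebraMap A C)))) :
    FlatMor.IsUnivHomeo (Spec.map (CommRingCat.ofHom (algebraMap A' (A' ⊗[A] C)))) := by
  have hpb := isPullback_SpecMap_of_isPushout _ _ _ _ (CommRingCat.isPushout_tensorProduct A A' C)
  exact MorphismProperty.of_isPullback (P := FlatMor.IsUnivHomeo.{u}) hpb.flip hC

theorem range_subset [Module.Flat A A'] (hinj : Function.Injective (algebraMap A B))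
    (C : Subalgebra A B)
    (hC : FlatMor.IsUnivHomeo (Spec.map (CommRingCat.ofHom (algebraMap A C))))
    (C' : Subalgebra A' (A' ⊗[A] B))
    (hmax' : ∀ D : Subalgebra A' (A' ⊗[A] B),
      FlatMor.IsUnivHomeo (Spec.map (CommRingCat.ofHom (algebraMap A' D))) → D ≤ C') :
    Set.range (Algebra.TensorProduct.map (AlgHom.id A A') C.val) ⊆ (C' : Set (A' ⊗[A] B)) := by
  let g : A' ⊗[A] C →ₐ[A'] A' ⊗[A] B := Algebra.TensorProduct.map (AlgHom.id A' A') C.val
  have huh := uh_baseChange (A' := A') C hC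
  obtain ⟨hint, hui, -⟩ := (uh_alg_iff A' (A' ⊗[A] C)).mp huh
  have hinj' : Function.Injective (algebraMap A' (A' ⊗[A] B)) :=
    Algebra.TensorProduct.includeLeft_injective (S := A') hinj
  have hker' : RingHom.ker (algebraMap A' (A' ⊗[A] B)) ≤ nilradical A' := by
    rw [(RingHom.injective_iff_ker_eq_bot _).mp hinj']; exact bot_le
  have hgood := goodSub_range hint hui g
  have hle := hmax' g.range ((uh_sub_iff hker' g.range).mpr hgood)
  rintro _ ⟨y, rfl⟩
  apply hle
  refine ⟨y, ?_⟩
  rfl


section Aux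

/-- two algebra maps out of a universally injective algebra agree up to nilpotents. -/
lemma isNilpotent_sub_of_ui {K C S : Type u} [CommRing K] [CommRing C] [CommRing S] [Algebra K C]
    [Algebra K S] (hui : UI K C) (f₁ f₂ : C →ₐ[K] S) (c : C) : IsNilpotent (f₁ c - f₂ c) := by
  have hx : IsNilpotent (c ⊗ₜ[K] (1 : C) - (1 : C) ⊗ₜ[K] c) := by
    apply hui
    rw [map_sub, Algebra.TensorProduct.lmul'_apply_tmul, Algebra.TensorProduct.lmul'_apply_tmul,
      mul_one, one_mul, sub_self]
  obtain ⟨n, hn⟩ := hx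
  refine ⟨n, ?_⟩
  have h1 : Algebra.TensorProduct.productMap f₁ f₂ (c ⊗ₜ[K] (1 : C) - (1 : C) ⊗ₜ[K] c) =
      f₁ c - f₂ c := by
    rw [map_sub, Algebra.TensorProduct.productMap_apply_tmul,
      Algebra.TensorProduct.productMap_apply_tmul, map_one, map_one, mul_one, one_mul]
  rw [← h1, ← map_pow, hn, map_zero]

variable [Module.Flat A A']

/-- kernel of the reduced difference map after flat base change. -/
lemma mem_range_lTensor_of_isNilpotent {Bb : Type u} [CommRing Bb] [Algebra A Bb]
    (E : Subalgebra A Bb)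
    (hE : ∀ b : Bb, b ∈ E ↔ IsNilpotent (b ⊗ₜ[A] (1 : Bb) - (1 : Bb) ⊗ₜ[A] b))
    [IsReduced (A' ⊗[A] ((Bb ⊗[A] Bb) ⧸ nilradical (Bb ⊗[A] Bb)))]
    (y : A' ⊗[A] Bb)
    (hy : IsNilpotent
      ((Algebra.TensorProduct.includeLeft : Bb →ₐ[A] Bb ⊗[A] Bb).toLinearMap.lTensor A' y -
        (Algebra.TensorProduct.includeRight : Bb →ₐ[A] Bb ⊗[A] Bb).toLinearMap.lTensor A' y)) :
    y ∈ LinearMap.range (E.val.toLinearMap.lTensor A') := by
  let δ : Bb →ₗ[A] (Bb ⊗[A] Bb) ⧸ nilradical (Bb ⊗[A] Bb) :=
    (Ideal.Quotient.mkₐ A (nilradical (Bb ⊗[A] Bb))).toLinearMap ∘ₗ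
      ((Algebra.TensorProduct.includeLeft : Bb →ₐ[A] Bb ⊗[A] Bb).toLinearMap -
        (Algebra.TensorProduct.includeRight : Bb →ₐ[A] Bb ⊗[A] Bb).toLinearMap)
  have hδ : ∀ b, δ b = 0 ↔ b ∈ E := by
    intro b
    rw [hE]
    show Ideal.Quotient.mk (nilradical (Bb ⊗[A] Bb)) (b ⊗ₜ[A] 1 - 1 ⊗ₜ[A] b) = 0 ↔ _
    rw [Ideal.Quotient.eq_zero_iff_mem]
    exact mem_nilradical
  have hexact : Function.Exact E.val.toLinearMap δ := by
    intro b
    rw [hδ]
    constructor
    · intro hb; exact ⟨⟨b, hb⟩, rfl⟩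
    · rintro ⟨e, rfl⟩; exact e.2
  have hexact' := Module.Flat.lTensor_exact A' hexact
  let π : A' ⊗[A] (Bb ⊗[A] Bb) →ₐ[A'] A' ⊗[A] ((Bb ⊗[A] Bb) ⧸ nilradical (Bb ⊗[A] Bb)) :=
    Algebra.TensorProduct.map (AlgHom.id A' A') (Ideal.Quotient.mkₐ A (nilradical (Bb ⊗[A] Bb)))
  have hδy : ∀ y : A' ⊗[A] Bb, (δ.lTensor A') y =
      π ((Algebra.TensorProduct.includeLeft : Bb →ₐ[A] Bb ⊗[A] Bb).toLinearMap.lTensor A' y -
        (Algebra.TensorProduct.includeRight : Bb →ₐ[A] Bb ⊗[A] Bb).toLinearMap.lTensor A' y) := by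
    intro y
    induction y using TensorProduct.induction_on with
    | zero => simp
    | tmul a b =>
      simp only [LinearMap.lTensor_tmul, π, δ, map_sub, Algebra.TensorProduct.map_tmul,
        AlgHom.coe_id, id_eq, LinearMap.comp_apply, LinearMap.sub_apply, AlgHom.toLinearMap_apply,
        TensorProduct.tmul_sub]
    | add x z hx hz => simp only [map_add, map_sub] at hx hz ⊢; rw [hx, hz]; abel
  have hzero : π ((Algebra.TensorProduct.includeLeft : Bb →ₐ[A] Bb ⊗[A] Bb).toLinearMap.lTensor A' y -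
        (Algebra.TensorProduct.includeRight : Bb →ₐ[A] Bb ⊗[A] Bb).toLinearMap.lTensor A' y) = 0 := by
    obtain ⟨n, hn⟩ := hy
    apply IsNilpotent.eq_zero
    exact ⟨n, by rw [← map_pow, hn, map_zero]⟩
  exact (hexact' y).mp ((hδy y).trans hzero)

end Aux

section Core

variable [Module.Flat A A']

/-- the core inclusion. -/
theorem subset_range (hinj : Function.Injective (algebraMap A B))
    (H1 : Function.Bijective (TensorProduct.toIntegralClosure A A' B))
    (H2 : ∀ (R : Type u) [CommRing R] [Algebra A R] [IsReduced R], IsReduced (A' ⊗[A] R))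
    (C : Subalgebra A B)
    (hmax : ∀ D : Subalgebra A B,
      FlatMor.IsUnivHomeo (Spec.map (CommRingCat.ofHom (algebraMap A D))) → D ≤ C)
    (C' : Subalgebra A' (A' ⊗[A] B))
    (hC' : FlatMor.IsUnivHomeo (Spec.map (CommRingCat.ofHom (algebraMap A' C')))) :
    (C' : Set (A' ⊗[A] B)) ⊆ Set.range (Algebra.TensorProduct.map (AlgHom.id A A') C.val) := by
  intro c' hc'
  -- the integral closure and the equalizer
  have hinjb : Function.Injective (algebraMap A (integralClosure A B)) := by
    intro a a' h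
    apply hinj
    exact congrArg (integralClosure A B).val h
  obtain ⟨E, hE, hEuh, -⟩ := weakNorm_equalizer A (integralClosure A B) hinjb
  obtain ⟨hEint, hEui, -⟩ := (uh_alg_iff A E).mp hEuh
  -- the image of `E` in `B` lies in `C`
  have hker : RingHom.ker (algebraMap A B) ≤ nilradical A := by
    rw [(RingHom.injective_iff_ker_eq_bot _).mp hinj]; exact bot_le
  let gE : E →ₐ[A] B := (integralClosure A B).val.comp E.val
  have hEC : gE.range ≤ C := hmax _ ((uh_sub_iff hker gE.range).mpr (goodSub_range hEint hEui gE))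
  let ε : E →ₐ[A] C := gE.codRestrict C (fun e => hEC ⟨e, rfl⟩)
  -- integrality of `c'`
  obtain ⟨hint', hui', -⟩ := (uh_alg_iff A' C').mp hC'
  have hle : C' ≤ integralClosure A' (A' ⊗[A] B) := by
    intro t ht
    exact (show IsIntegral A' (⟨t, ht⟩ : C') from hint' ⟨t, ht⟩).map C'.val
  obtain ⟨y, hy⟩ := H1.2 ⟨c', hle hc'⟩
  have hy' : Algebra.TensorProduct.map (AlgHom.id A' A') (integralClosure A B).val y = c' :=
    congrArg Subtype.val hy
  -- the map `θ`
  let τ := AlgEquiv.ofBijective (TensorProduct.toIntegralClosure A A' B) H1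
  let θ : C' →ₐ[A'] A' ⊗[A] integralClosure A B := τ.symm.toAlgHom.comp (Subalgebra.inclusion hle)
  have hθ : θ ⟨c', hc'⟩ = y := by
    show τ.symm (Subalgebra.inclusion hle ⟨c', hc'⟩) = y
    rw [AlgEquiv.symm_apply_eq]
    exact hy.symm
  -- the two projections
  let p₁ : A' ⊗[A] integralClosure A B →ₐ[A'] A' ⊗[A] (integralClosure A B ⊗[A] integralClosure A B) :=
    Algebra.TensorProduct.map (AlgHom.id A' A') Algebra.TensorProduct.includeLeft
  let p₂ : A' ⊗[A] integralClosure A B →ₐ[A'] A' ⊗[A] (integralClosure A B ⊗[A] integralClosure A B) :=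
    Algebra.TensorProduct.map (AlgHom.id A' A') Algebra.TensorProduct.includeRight
  have hnil := isNilpotent_sub_of_ui
    (S := A' ⊗[A] (integralClosure A B ⊗[A] integralClosure A B)) hui' (p₁.comp θ) (p₂.comp θ) ⟨c', hc'⟩
  have h1 : (p₁.comp θ) ⟨c', hc'⟩ = p₁ y := congrArg p₁ hθ
  have h2 : (p₂.comp θ) ⟨c', hc'⟩ = p₂ y := congrArg p₂ hθ
  rw [h1, h2] at hnil
  haveI : IsReduced ((integralClosure A B ⊗[A] integralClosure A B) ⧸
      nilradical (integralClosure A B ⊗[A] integralClosure A B)) :=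
    (Ideal.isRadical_iff_quotient_reduced _).mp (Ideal.radical_isRadical _)
  haveI := H2 ((integralClosure A B ⊗[A] integralClosure A B) ⧸
      nilradical (integralClosure A B ⊗[A] integralClosure A B))
  obtain ⟨z, hz⟩ := mem_range_lTensor_of_isNilpotent (A' := A') E hE y hnil
  refine ⟨Algebra.TensorProduct.map (AlgHom.id A A') ε z, ?_⟩
  rw [← hy', ← hz]
  clear hz
  induction z using TensorProduct.induction_on with
  | zero => simp
  | tmul a e => rfl
  | add x z hx hz => simp only [map_add]; rw [hx, hz]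

end Core


theorem main (hinj : Function.Injective (algebraMap A B))
    (hA' : (∃ M : Submonoid A, IsLocalization M A') ∨ Algebra.Etale A A')
    (C : Subalgebra A B) (hC : FlatMor.IsUnivHomeo (Spec.map (CommRingCat.ofHom (algebraMap A C))))
    (hmax : ∀ D : Subalgebra A B,
      FlatMor.IsUnivHomeo (Spec.map (CommRingCat.ofHom (algebraMap A D))) → D ≤ C)
    (C' : Subalgebra A' (A' ⊗[A] B))
    (hC' : FlatMor.IsUnivHomeo (Spec.map (CommRingCat.ofHom (algebraMap A' C'))))
    (hmax' : ∀ D : Subalgebra A' (A' ⊗[A] B),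
      FlatMor.IsUnivHomeo (Spec.map (CommRingCat.ofHom (algebraMap A' D))) → D ≤ C') :
    (C' : Set (A' ⊗[A] B)) =
      Set.range (Algebra.TensorProduct.map (AlgHom.id A A') C.val) := by
  have key : Module.Flat A A' ∧ Function.Bijective (TensorProduct.toIntegralClosure A A' B) ∧
      ∀ (R : Type u) [CommRing R] [Algebra A R] [IsReduced R], IsReduced (A' ⊗[A] R) := by
    rcases hA' with ⟨M, hM⟩ | het
    · refine ⟨IsLocalization.flat A' M,
        TensorProduct.toIntegralClosure_bijective_of_isLocalization M, ?_⟩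
      intro R _ _ _
      haveI : IsLocalization (Algebra.algebraMapSubmonoid R M) (R ⊗[A] A') := inferInstance
      haveI : IsReduced (R ⊗[A] A') :=
        isReduced_localizationPreserves (Algebra.algebraMapSubmonoid R M) _ inferInstance
      exact isReduced_of_injective (Algebra.TensorProduct.comm A A' R).toRingEquiv.toRingHom
        (Algebra.TensorProduct.comm A A' R).injective
    · haveI : Algebra.Smooth A A' := inferInstance
      refine ⟨inferInstance, TensorProduct.toIntegralClosure_bijective_of_smooth, ?_⟩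
      intro R _ _ _
      haveI : Algebra.Smooth R (R ⊗[A] A') := inferInstance
      haveI : IsReduced (R ⊗[A] A') := Groth.Agent.H4.SmRed.isReduced_of_smooth R (R ⊗[A] A')
      exact isReduced_of_injective (Algebra.TensorProduct.comm A A' R).toRingEquiv.toRingHom
        (Algebra.TensorProduct.comm A A' R).injective
  obtain ⟨hflat, H1, H2⟩ := key
  exact Set.Subset.antisymm (subset_range hinj H1 H2 C hmax C' hC')
    (range_subset hinj C hC C' hmax')

end Groth.Agent.H5.WSub
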